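import Mathlib
import Cfsg.Agent.Lib.helper15.WB.Defs

set_option autoImplicit false

/-!
# Project LSE (S2333): minimal degree of `Sp_{2n}(q)`, `q` even — definitions

Siegel unipotent radical `siegel S = [[1, S], [0, 1]]` (`S` symmetric), Levi elements
`levi A = [[A, 0], [0, A⁻ᵀ]]`, congruence `cgS A : S ↦ A S Aᵀ`, and the quadratic form
`qf L : v ↦ L (v vᵀ)` of a linear functional `L` on the symmetric matrices.
-/

namespace Cfsg.Agent.Lib.Helper16.LSE

open Matrix

variable {F : Type*} [Field F] {n : ℕ}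

/-- symmetric `n × n` matrices, as an `F`-submodule of all matrices -/
def SymM (n : ℕ) (F : Type*) [Field F] : Submodule F (Matrix (Fin n) (Fin n) F) where
  carrier := {S | Sᵀ = S}
  add_mem' := by
    intro a b ha hb
    change (a + b)ᵀ = a + b
    have ha' : aᵀ = a := ha
    have hb' : bᵀ = b := hb
    rw [transpose_add, ha', hb']
  zero_mem' := transpose_zero
  smul_mem' := by
    intro c a ha
    change (c • a)ᵀ = c • a
    have ha' : aᵀ = a := ha
    rw [transpose_smul, ha']

theorem mem_SymM {S : Matrix (Fin n) (Fin n) F} : S ∈ SymM n F ↔ Sᵀ = S := Iff.rfl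

theorem SymM_transpose (S : SymM n F) : (S : Matrix (Fin n) (Fin n) F)ᵀ = S := S.2

/-- congruence `S ↦ A S Aᵀ` as a linear endomorphism of the symmetric matrices -/
def cgS (A : Matrix (Fin n) (Fin n) F) : SymM n F →ₗ[F] SymM n F where
  toFun S := ⟨A * (S : Matrix (Fin n) (Fin n) F) * Aᵀ, by
    rw [mem_SymM, transpose_mul, transpose_mul, transpose_transpose, SymM_transpose,
      Matrix.mul_assoc]⟩
  map_add' := by
    intro S S'
    apply Subtype.ext
    simp [Matrix.mul_add, Matrix.add_mul]
  map_smul' := by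
    intro c S
    apply Subtype.ext
    simp

@[simp] theorem coe_cgS (A : Matrix (Fin n) (Fin n) F) (S : SymM n F) :
    ((cgS A S : SymM n F) : Matrix (Fin n) (Fin n) F) = A * (S : Matrix (Fin n) (Fin n) F) * Aᵀ :=
  rfl

/-- the rank-one symmetric matrix `v vᵀ` -/
def vv (v : Fin n → F) : SymM n F :=
  ⟨vecMulVec v v, by rw [mem_SymM, transpose_vecMulVec]⟩

/-- the symmetric matrix `v wᵀ + w vᵀ` -/
def vw (v w : Fin n → F) : SymM n F :=
  ⟨vecMulVec v w + vecMulVec w v, by
    rw [mem_SymM, transpose_add, transpose_vecMulVec, transpose_vecMulVec, add_comm]⟩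

@[simp] theorem coe_vv (v : Fin n → F) :
    ((vv v : SymM n F) : Matrix (Fin n) (Fin n) F) = vecMulVec v v := rfl

@[simp] theorem coe_vw (v w : Fin n → F) :
    ((vw v w : SymM n F) : Matrix (Fin n) (Fin n) F) = vecMulVec v w + vecMulVec w v := rfl

theorem vv_add (v w : Fin n → F) : vv (v + w) = vv v + vv w + vw v w := by
  apply Subtype.ext
  simp only [coe_vv, Submodule.coe_add, coe_vw, add_vecMulVec, vecMulVec_add]
  abel

theorem vv_smul (c : F) (v : Fin n → F) : vv (c • v) = (c * c) • vv v := by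
  apply Subtype.ext
  simp only [coe_vv, Submodule.coe_smul, smul_vecMulVec, vecMulVec_smul, smul_smul]

theorem vw_add_left (v v' w : Fin n → F) : vw (v + v') w = vw v w + vw v' w := by
  apply Subtype.ext
  simp only [coe_vw, Submodule.coe_add, add_vecMulVec, vecMulVec_add]
  abel

theorem vw_smul_left (c : F) (v w : Fin n → F) : vw (c • v) w = c • vw v w := by
  apply Subtype.ext
  simp only [coe_vw, Submodule.coe_smul, smul_vecMulVec, vecMulVec_smul, smul_add]

theorem vw_comm (v w : Fin n → F) : vw v w = vw w v := by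
  apply Subtype.ext
  simp only [coe_vw, add_comm]

theorem cgS_vv (A : Matrix (Fin n) (Fin n) F) (v : Fin n → F) : cgS A (vv v) = vv (A *ᵥ v) := by
  apply Subtype.ext
  rw [coe_cgS, coe_vv, coe_vv, mul_vecMulVec, vecMulVec_mul, vecMul_transpose]

theorem cgS_vw (A : Matrix (Fin n) (Fin n) F) (v w : Fin n → F) :
    cgS A (vw v w) = vw (A *ᵥ v) (A *ᵥ w) := by
  have h := cgS_vv A (v + w)
  rw [vv_add, map_add, map_add, cgS_vv, cgS_vv, Matrix.mulVec_add, vv_add] at h
  exact add_left_cancel h

/-- the quadratic form `v ↦ L (v vᵀ)` attached to a linear functional on the symmetric matrices -/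
def qf (L : SymM n F →ₗ[F] F) : QuadraticForm F (Fin n → F) :=
  QuadraticMap.ofPolar (fun v => L (vv v))
    (by
      intro a x
      rw [vv_smul, map_smul])
    (by
      intro x x' y
      have h : ∀ a b : Fin n → F, QuadraticMap.polar (fun v => L (vv v)) a b = L (vw a b) := by
        intro a b
        unfold QuadraticMap.polar
        simp only [vv_add, map_add]
        ring
      rw [h, h, h, vw_add_left, map_add])
    (by
      intro a x y
      have h : ∀ a b : Fin n → F, QuadraticMap.polar (fun v => L (vv v)) a b = L (vw a b) := by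
        intro a b
        unfold QuadraticMap.polar
        simp only [vv_add, map_add]
        ring
      rw [h, h, vw_smul_left, map_smul])

@[simp] theorem qf_apply (L : SymM n F →ₗ[F] F) (v : Fin n → F) : qf L v = L (vv v) := rfl

theorem polar_qf (L : SymM n F →ₗ[F] F) (v w : Fin n → F) :
    QuadraticMap.polar (qf L) v w = L (vw v w) := by
  unfold QuadraticMap.polar
  rw [qf_apply, qf_apply, qf_apply, vv_add, map_add, map_add]
  ring

/-- `qf (L ∘ cgS A) = (qf L) ∘ A` -/
theorem qf_comp_cgS (L : SymM n F →ₗ[F] F) (A : Matrix (Fin n) (Fin n) F) :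
    qf (L.comp (cgS A)) = (qf L).comp (Matrix.toLin' A) := by
  ext v
  rw [qf_apply, LinearMap.comp_apply, cgS_vv, QuadraticMap.comp_apply, qf_apply, Matrix.toLin'_apply]

/-- the quadratic forms on `F^n` over a finite field form a finite type -/
theorem finite_qf (F : Type*) [Field F] [Finite F] (n : ℕ) :
    Finite (QuadraticForm F (Fin n → F)) :=
  Finite.of_injective (fun Q : QuadraticForm F (Fin n → F) => (Q : (Fin n → F) → F))
    DFunLike.coe_injective

/-- Siegel unipotent element `[[1, S], [0, 1]]` of the symplectic group -/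
def siegel (S : SymM n F) : Matrix.symplecticGroup (Fin n) F :=
  ⟨fromBlocks 1 (S : Matrix (Fin n) (Fin n) F) 0 1, by
    rw [SymplecticGroup.fromBlocks_mem_iff]
    simp [SymM_transpose]⟩

@[simp] theorem coe_siegel (S : SymM n F) :
    ((siegel S : Matrix.symplecticGroup (Fin n) F) : Matrix (Fin n ⊕ Fin n) (Fin n ⊕ Fin n) F) =
      fromBlocks 1 (S : Matrix (Fin n) (Fin n) F) 0 1 := rfl

theorem siegel_add (S S' : SymM n F) : siegel (S + S') = siegel S * siegel S' := by
  apply Subtype.ext
  rw [Submonoid.coe_mul, coe_siegel, coe_siegel, coe_siegel, fromBlocks_multiply]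
  simp [add_comm]

theorem siegel_zero : siegel (0 : SymM n F) = 1 := by
  apply Subtype.ext
  rw [coe_siegel]
  simp [fromBlocks_one]

theorem siegel_injective : Function.Injective (siegel : SymM n F → Matrix.symplecticGroup (Fin n) F) := by
  intro S S' h
  have h1 := congrArg (fun g : Matrix.symplecticGroup (Fin n) F =>
    (g : Matrix (Fin n ⊕ Fin n) (Fin n ⊕ Fin n) F)) h
  simp only [coe_siegel] at h1
  have h2 := (fromBlocks_inj.1 h1).2.1
  exact Subtype.ext h2

/-- Levi element `[[A, 0], [0, A⁻ᵀ]]` of the symplectic group -/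
def levi (A : GL (Fin n) F) : Matrix.symplecticGroup (Fin n) F :=
  ⟨fromBlocks (A : Matrix (Fin n) (Fin n) F) 0 0 ((A⁻¹ : GL (Fin n) F) : Matrix (Fin n) (Fin n) F)ᵀ, by
    have h1 : (A : Matrix (Fin n) (Fin n) F) * ((A⁻¹ : GL (Fin n) F) : Matrix (Fin n) (Fin n) F) = 1 := by
      rw [← Matrix.GeneralLinearGroup.coe_mul, mul_inv_cancel]; rfl
    have h2 : ((A⁻¹ : GL (Fin n) F) : Matrix (Fin n) (Fin n) F) * (A : Matrix (Fin n) (Fin n) F) = 1 := by
      rw [← Matrix.GeneralLinearGroup.coe_mul, inv_mul_cancel]; rfl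
    rw [SymplecticGroup.fromBlocks_mem_iff]
    refine ⟨by simp, by simp, ?_⟩
    rw [transpose_zero, Matrix.zero_mul, sub_zero, ← transpose_mul, h2, transpose_one]⟩

@[simp] theorem coe_levi (A : GL (Fin n) F) :
    ((levi A : Matrix.symplecticGroup (Fin n) F) : Matrix (Fin n ⊕ Fin n) (Fin n ⊕ Fin n) F) =
      fromBlocks (A : Matrix (Fin n) (Fin n) F) 0 0
        ((A⁻¹ : GL (Fin n) F) : Matrix (Fin n) (Fin n) F)ᵀ := rfl

theorem levi_mul_siegel (A : GL (Fin n) F) (S : SymM n F) :
    levi A * siegel S = siegel (cgS (A : Matrix (Fin n) (Fin n) F) S) * levi A := by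
  have h2 : ((A⁻¹ : GL (Fin n) F) : Matrix (Fin n) (Fin n) F) * (A : Matrix (Fin n) (Fin n) F) = 1 := by
    rw [← Matrix.GeneralLinearGroup.coe_mul, inv_mul_cancel]; rfl
  apply Subtype.ext
  rw [Submonoid.coe_mul, Submonoid.coe_mul, coe_levi, coe_siegel,
    coe_siegel, fromBlocks_multiply, fromBlocks_multiply, coe_cgS]
  simp only [Matrix.mul_zero, Matrix.zero_mul, zero_add, add_zero, Matrix.mul_one, Matrix.one_mul]
  congr 1
  rw [Matrix.mul_assoc, Matrix.mul_assoc, ← transpose_mul, h2, transpose_one, Matrix.mul_one]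

theorem levi_conj_siegel (A : GL (Fin n) F) (S : SymM n F) :
    levi A * siegel S * (levi A)⁻¹ = siegel (cgS (A : Matrix (Fin n) (Fin n) F) S) := by
  rw [levi_mul_siegel, mul_assoc, mul_inv_cancel, mul_one]

end Cfsg.Agent.Lib.Helper16.LSE
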